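import Cfsg.Agent.H962.PP.Main

/-!
# Products of two matrices with prescribed characteristic polynomials and a prescribed eigenfunctional
(helper295, S2453)

`exists_mul_phi`: helper962's theorem A with the eigenfunctional of the second factor prescribed: any row vector
`v0` with `v0 A ∉ F v0`.
-/

set_option autoImplicit false

namespace Cfsg.Agent.H295.War

open Module Matrix Polynomial Cfsg.Agent.H962.PP

variable {F : Type*} [Field F] {k : ℕ}

/-- **Hessenberg form** with prescribed first row -/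
theorem exists_hess' (A : Matrix (Fin (k + 2)) (Fin (k + 2)) F) {v0 : Fin (k + 2) → F} (hv0 : v0 ≠ 0)
    (hvA : v0 ᵥ* A ∉ Submodule.span F {v0}) :
    ∃ (R L : Matrix (Fin (k + 2)) (Fin (k + 2)) F), IsUnit R.det ∧ R * A = L * R ∧ LH L ∧
      L 0 1 ≠ 0 ∧ R 0 = v0 := by
  obtain ⟨a, ha⟩ : ∃ a : (Fin (k + 2) → F) →ₗ[F] (Fin (k + 2) → F), a = A.vecMulLinear := ⟨_, rfl⟩
  have ha' : ∀ v, a v = v ᵥ* A := fun v => by rw [ha, Matrix.vecMulLinear_apply]
  have hfin : finrank F (Fin (k + 2) → F) = k + 2 := by simp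
  have hli := st_indep a v0 hv0 (k + 2) (by rw [hfin])
  let b : Basis (Fin (k + 2)) F (Fin (k + 2) → F) :=
    basisOfLinearIndependentOfCardEqFinrank hli (by simp)
  have hb : ∀ i, b i = (st a v0 i).2 := fun i => by
    simp [b]
  let R : Matrix (Fin (k + 2)) (Fin (k + 2)) F := Matrix.of fun i => b i
  let L : Matrix (Fin (k + 2)) (Fin (k + 2)) F := Matrix.of fun i j => b.repr (a (b i)) j
  have hRL : R * A = L * R := by
    ext i j
    have h1 : (R * A) i = a (b i) := by
      rw [ha']; rfl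
    have h2 : (L * R) i = a (b i) := by
      rw [← b.sum_repr (a (b i))]
      ext l
      rw [Matrix.mul_apply, Finset.sum_apply]
      exact Finset.sum_congr rfl fun m _ => rfl
    rw [h1, h2]
  have hR : IsUnit R.det := by
    rw [← Matrix.isUnit_iff_isUnit_det, ← Matrix.linearIndependent_rows_iff_isUnit]
    exact b.linearIndependent
  have hmemspan : ∀ (n : ℕ) (v : Fin (k + 2) → F), v ∈ (st a v0 n).1 →
      ∀ j : Fin (k + 2), n ≤ j → b.repr v j = 0 := by
    intro n v hv j hj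
    rw [st_one] at hv
    refine Submodule.span_induction (p := fun v _ => b.repr v j = 0) ?_ ?_ ?_ ?_ hv
    · rintro _ ⟨i, rfl⟩
      have hi : (i : ℕ) < k + 2 := by have := i.2; have := j.2; omega
      have h3 : (st a v0 i).2 = b ⟨i, hi⟩ := (hb ⟨i, hi⟩).symm
      simp only
      rw [h3, b.repr_self, Finsupp.single_eq_of_ne]
      intro h
      rw [h] at hj
      simp only at hj
      have := i.2
      omega
    · simp
    · intro x y _ _ hx hy; rw [map_add, Finsupp.add_apply, hx, hy, add_zero]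
    · intro c x _ hx; rw [map_smul, Finsupp.smul_apply, hx, smul_zero]
  have h0 : b 0 = v0 := by rw [hb]; rfl
  refine ⟨R, L, hR, hRL, ?_, ?_, h0⟩
  · intro i j hij
    change b.repr (a (b i)) j = 0
    apply hmemspan ((i : ℕ) + 2)
    · rw [hb]; exact st_map a v0 i
    · omega
  · change b.repr (a (b 0)) 1 ≠ 0
    have h1 : b 1 = a v0 := by
      rw [hb]
      change (st a v0 (0 + 1)).2 = a v0
      rw [st]
      simp only
      rw [if_pos]
      · rfl
      · change a v0 ∉ ⊥ ⊔ Submodule.span F {v0}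
        rw [bot_sup_eq, ha']
        exact hvA
    rw [h0, ← h1, b.repr_self]
    simp

theorem aeval_conj {n : ℕ} {R M : Matrix (Fin n) (Fin n) F} (hR : IsUnit R.det) (f : F[X]) :
    aeval (R⁻¹ * M * R) f = R⁻¹ * aeval M f * R := by
  have hRR' : R * R⁻¹ = 1 := Matrix.mul_nonsing_inv _ hR
  have hRR : R⁻¹ * R = 1 := Matrix.nonsing_inv_mul _ hR
  have hpow : ∀ i : ℕ, (R⁻¹ * M * R) ^ i = R⁻¹ * M ^ i * R := by
    intro i
    induction i with
    | zero => rw [pow_zero, pow_zero, mul_one, hRR]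
    | succ i ih =>
      rw [pow_succ, ih, pow_succ]
      have : R⁻¹ * M ^ i * R * (R⁻¹ * M * R) = R⁻¹ * M ^ i * (R * R⁻¹) * M * R := by
        simp only [mul_assoc]
      rw [this, hRR', mul_one, mul_assoc (R⁻¹)]
  rw [aeval_eq_sum_range, aeval_eq_sum_range, Finset.mul_sum, Finset.sum_mul]
  refine Finset.sum_congr rfl fun i _ => ?_
  rw [hpow, Matrix.mul_smul, Matrix.smul_mul]

/-- powers of a matrix with first row `(c, 0, …, 0)` on vectors `(0, w)` -/
theorem mulVec_consL {n : ℕ} {y : Matrix (Fin (n + 1)) (Fin (n + 1)) F}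
    (h : ∀ j : Fin n, y 0 j.succ = 0) (w : Fin n → F) :
    y *ᵥ consL w = consL ((y.submatrix Fin.succ Fin.succ) *ᵥ w) := by
  ext i
  refine Fin.cases ?_ (fun j => ?_) i
  · rw [mulVec_consL_zero, consL_zero]
    exact Finset.sum_eq_zero fun j _ => by rw [h j, zero_mul]
  · rw [mulVec_consL_succ, consL_succ]

theorem aeval_consL {n : ℕ} {y : Matrix (Fin (n + 1)) (Fin (n + 1)) F}
    (h : ∀ j : Fin n, y 0 j.succ = 0) (f : F[X]) (w : Fin n → F) :
    aeval y f *ᵥ consL w = consL (aeval (y.submatrix Fin.succ Fin.succ) f *ᵥ w) := by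
  have hpow : ∀ (i : ℕ) (w : Fin n → F), y ^ i *ᵥ consL w
      = consL ((y.submatrix Fin.succ Fin.succ) ^ i *ᵥ w) := by
    intro i
    induction i with
    | zero => intro w; rw [pow_zero, pow_zero, one_mulVec, one_mulVec]
    | succ i ih =>
      intro w
      rw [pow_succ', pow_succ', ← mulVec_mulVec, ih, mulVec_consL h, mulVec_mulVec]
  rw [aeval_eq_sum_range, aeval_eq_sum_range, Matrix.sum_mulVec, Matrix.sum_mulVec, map_sum]
  refine Finset.sum_congr rfl fun i _ => ?_
  rw [Matrix.smul_mulVec, hpow, Matrix.smul_mulVec, map_smul]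

/-- **Products of two matrices with prescribed characteristic polynomials and eigenfunctional.** -/
theorem exists_mul_phi (A : Matrix (Fin (k + 2)) (Fin (k + 2)) F) (hdet : A.det ≠ 0)
    {v0 : Fin (k + 2) → F} (hv0 : v0 ≠ 0) (hvA : v0 ᵥ* A ∉ Submodule.span F {v0})
    {p f : F[X]} (hp : p.Monic)
    (hpdeg : p.natDegree = k + 2) (hp0 : p.coeff 0 ≠ 0) (hf : f.Monic) (hfdeg : f.natDegree = k + 1)
    (hf0 : f.coeff 0 ≠ 0) :
    ∃ x y : Matrix (Fin (k + 2)) (Fin (k + 2)) F, A = x * y ∧ x.charpoly = p ∧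
      ∃ c : F, c ≠ 0 ∧ y.charpoly = (X - C c) * f ∧ v0 ᵥ* y = c • v0 ∧
        ∀ w, v0 ⬝ᵥ w = 0 → aeval y f *ᵥ w = 0 := by
  obtain ⟨R, L, hR, hRL, hL, hL01, hR0⟩ := exists_hess' A hv0 hvA
  have hRR : R⁻¹ * R = 1 := Matrix.nonsing_inv_mul _ hR
  have hRR' : R * R⁻¹ = 1 := Matrix.mul_nonsing_inv _ hR
  have hLdet : L.det ≠ 0 := by
    have h1 : R.det * A.det = L.det * R.det := by rw [← det_mul, ← det_mul, hRL]
    intro h
    rw [h, zero_mul] at h1
    exact mul_ne_zero hR.ne_zero hdet h1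
  obtain ⟨x, y, hxy, hxp, -, hy0, hyc, hyf, -⟩ :=
    hess hL hLdet hL01 hp hpdeg hp0 hf hfdeg hf0
  have hconj : ∀ M : Matrix (Fin (k + 2)) (Fin (k + 2)) F,
      (R⁻¹ * M * R).charpoly = M.charpoly := by
    intro M
    rw [Matrix.charpoly_mul_comm, ← mul_assoc, hRR', one_mul]
  have he : ∀ v : Fin (k + 2) → F, (Pi.single 0 1 : Fin (k + 2) → F) ᵥ* R = v0 := by
    intro _
    rw [Matrix.single_one_vecMul, ← hR0]
    rfl
  refine ⟨R⁻¹ * x * R, R⁻¹ * y * R, ?_, by rw [hconj, hxp], y 0 0, hyc, ?_, ?_, ?_⟩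
  · have h1 : R⁻¹ * x * R * (R⁻¹ * y * R) = R⁻¹ * x * (R * R⁻¹) * y * R := by
      simp only [mul_assoc]
    rw [h1, hRR', mul_one, mul_assoc (R⁻¹), hxy, mul_assoc, ← hRL, ← mul_assoc, hRR, one_mul]
  · rw [hconj, charpoly_of_row y hy0, hyf]
  · have h1 : (Pi.single 0 1 : Fin (k + 2) → F) ᵥ* y = y 0 0 • (Pi.single 0 1 : Fin (k + 2) → F) := by
      rw [Matrix.single_one_vecMul]
      ext j
      refine Fin.cases ?_ (fun i => ?_) j
      · simp
      · show y 0 i.succ = _
        rw [hy0]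
        simp [Fin.succ_ne_zero]
    rw [← he v0, Matrix.vecMul_vecMul, mul_assoc, ← mul_assoc R, hRR', one_mul, ← Matrix.vecMul_vecMul, h1,
      Matrix.smul_vecMul]
  · intro w hw
    rw [aeval_conj hR, ← Matrix.mulVec_mulVec, ← Matrix.mulVec_mulVec]
    have h2 : (R *ᵥ w) 0 = 0 := by
      rw [Matrix.mulVec, hR0]
      exact hw
    rw [← consL_tail h2, aeval_consL hy0, ← hyf, Matrix.aeval_self_charpoly, Matrix.zero_mulVec, map_zero,
      Matrix.mulVec_zero]

end Cfsg.Agent.H295.War
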