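import Cfsg.Agent.H295.War.Root
import Cfsg.Agent.H295.War.Mul
import Cfsg.Agent.H141.SpinOdd
import Cfsg.Agent.H140.OreO.Trans

/-!
# The engine for orthogonal groups (helper295; S2453 L5/L6, S2465)

`NP d f` : `f` monic irreducible of degree `d`, `f(0) = (-1)^d`, prime to its reciprocal.
`RK m k F` : a nonscalar matrix of size `m` with `rank (A - c) ≤ k` is `X * Z⁻¹` with prescribed characteristic
polynomials. `eng` : the factorisation of an isometry with a base corner.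
-/

set_option autoImplicit false
set_option linter.unusedSectionVars false

namespace Cfsg.Agent.H295.War

open QuadraticMap Cfsg.Agent.LieClassical.OrthCore Cfsg.Agent.LieClassical.OrthTrans
  Cfsg.Agent.LieClassical.OrthFinite Matrix Cfsg.Agent.H140.OreO Polynomial Module

/-- norm one polynomials -/
structure NP {F : Type*} [Field F] (d : ℕ) (f : F[X]) : Prop where
  monic : f.Monic
  irr : Irreducible f
  deg : f.natDegree = d
  c0 : f.coeff 0 = (-1) ^ d
  cop : IsCoprime f f.reverse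

theorem GP.np {F : Type*} [Field F] {p e d : ℕ} {f : F[X]} (h : GP p e d f) : NP d f :=
  ⟨h.monic, h.irr, h.deg, h.c0, h.cop⟩

/-- the small rank case -/
def RK (F : Type*) [Field F] (m k : ℕ) : Prop :=
  ∀ (A : Matrix (Fin m) (Fin m) F) (c : F), A.det = 1 → c ≠ 0 → (A - c • 1).rank ≤ k → A ≠ c • 1 → ∀ p g : F[X],
    p.Monic → p.natDegree = m → p.coeff 0 = (-1) ^ m → g.Monic → g.natDegree = m → g.coeff 0 = (-1) ^ m →
    p ≠ C (c ^ m) * g.comp (C c⁻¹ * X) →
    ∃ X Z : Matrix (Fin m) (Fin m) F, A * Z = X ∧ X.charpoly = p ∧ Z.charpoly = g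

variable {F V : Type*} [Field F] [AddCommGroup V] [Module F V] {n : ℕ} {Q : QuadraticForm F V}

theorem NP.coeff_ne {d : ℕ} {f : F[X]} (h : NP d f) : f.coeff 0 ≠ 0 := by
  rw [h.c0]
  exact pow_ne_zero _ (neg_ne_zero.2 one_ne_zero)

theorem NP.eval_ne {d : ℕ} {f : F[X]} (h : NP d f) (hd : 2 ≤ d) (x : F) : f.eval x ≠ 0 := by
  intro hx
  have h1 : X - C x ∣ f := dvd_iff_isRoot.2 hx
  have h2 := ((irreducible_X_sub_C x).dvd_irreducible_iff_associated h.irr).1 h1
  have h3 := natDegree_eq_of_degree_eq (degree_eq_degree_of_associated h2)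
  rw [natDegree_X_sub_C, h.deg] at h3
  omega

theorem NP.eval_rev {d : ℕ} {f : F[X]} (h : NP d f) (hd : 2 ≤ d) : f.reverse.eval 1 ≠ 0 := by
  intro h1
  have h2 : eval₂ (RingHom.id F) 1 (reverse f) * (1 : F) ^ f.natDegree = eval₂ (RingHom.id F) 1 f := by
    have h3 : Invertible (1 : F) := invertibleOne
    have := eval₂_reverse_mul_pow (RingHom.id F) (1 : F) f
    rwa [invOf_one] at this
  rw [one_pow, mul_one] at h2
  change f.reverse.eval 1 = f.eval 1 at h2
  exact h.eval_ne hd 1 (by rw [← h2, h1])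

/-- irreducible blocks -/
theorem NP.copr {f : F[X]} (h : NP n f) (hn : 2 ≤ n) {Y : GL (Fin n) F}
    (hY : (Y : Matrix (Fin n) (Fin n) F).charpoly = f) : Cop Y (1 : V ≃ₗ[F] V) := by
  apply cop_of_charpoly
  · rw [hY]; exact un_one' (h.eval_ne hn 1)
  · rw [hY]; exact un_one' (h.eval_rev hn)
  · rw [hY]; exact h.cop

theorem det_of_charpoly {n : ℕ} {M : Matrix (Fin n) (Fin n) F} {f : F[X]} (h : M.charpoly = f)
    (h0 : f.coeff 0 = (-1) ^ n) : M.det = 1 := by
  rw [det_eq_sign_charpoly_coeff, h, h0, Fintype.card_fin, ← mul_pow, neg_one_mul, neg_neg, one_pow]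

/-- the functionals killing the middle part of `u` -/
def annU (u : M F V n ≃ₗ[F] M F V n) : Submodule F (Fin n → F) where
  carrier := {φ | ∀ v : V, φ ⬝ᵥ (u (0, v, 0)).1 = 0}
  zero_mem' := fun v => zero_dotProduct _
  add_mem' {a b} ha hb := fun v => by rw [add_dotProduct, ha v, hb v, add_zero]
  smul_mem' c a ha := fun v => by rw [smul_dotProduct, ha v, smul_zero]

theorem mem_annU {u : M F V n ≃ₗ[F] M F V n} {φ : Fin n → F} :
    φ ∈ annU u ↔ ∀ v : V, φ ⬝ᵥ (u (0, v, 0)).1 = 0 := Iff.rfl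

theorem finrank_annU [FiniteDimensional F V] (u : M F V n ≃ₗ[F] M F V n) :
    n ≤ finrank F (annU u) + finrank F V := by
  let a : V →ₗ[F] (Fin n → F) := LinearMap.fst F (Fin n → F) (V × (Fin n → F)) ∘ₗ
    (u : M F V n →ₗ[F] M F V n) ∘ₗ LinearMap.inr F (Fin n → F) (V × (Fin n → F)) ∘ₗ
    LinearMap.inl F V (Fin n → F)
  let T : (Fin n → F) →ₗ[F] (V →ₗ[F] F) := LinearMap.mk₂ F (fun φ v => φ ⬝ᵥ a v)
    (fun x y z => add_dotProduct _ _ _) (fun c x y => smul_dotProduct _ _ _)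
    (fun x y z => by rw [map_add, dotProduct_add]) (fun c x y => by rw [map_smul, dotProduct_smul])
  have hk : LinearMap.ker T = annU u := by
    ext φ
    rw [LinearMap.mem_ker, mem_annU]
    constructor
    · intro h v
      exact LinearMap.congr_fun h v
    · intro h
      ext v
      exact h v
  have h1 := LinearMap.finrank_range_add_finrank_ker T
  have h2 : finrank F (LinearMap.range T) ≤ finrank F (V →ₗ[F] F) := Submodule.finrank_le _
  have h3 : finrank F (V →ₗ[F] F) = finrank F V := Subspace.dual_finrank_eq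
  rw [hk, finrank_fin_fun] at h1
  omega

/-- scalar on a large space of functionals: small rank -/
theorem exists_scalar {A : Matrix (Fin n) (Fin n) F} {S : Submodule F (Fin n → F)} (hA : A.det ≠ 0)
    (hS : ∀ φ ∈ S, φ ᵥ* A ∈ Submodule.span F {φ}) (hS0 : 1 ≤ finrank F S) :
    ∃ c : F, c ≠ 0 ∧ (A - c • 1).rank + finrank F S ≤ n := by
  have hmem : ∀ φ ∈ S, φ ᵥ* A ∈ S := fun φ hφ =>
    (Submodule.span_le.2 (Set.singleton_subset_iff.2 hφ)) (hS φ hφ)
  let T : S →ₗ[F] S := (A.vecMulLinear.comp S.subtype).codRestrict S (fun x => hmem x x.2)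
  have hT : ∀ x : S, ((T x : S) : Fin n → F) = (x : Fin n → F) ᵥ* A := fun x => rfl
  obtain ⟨c, hc⟩ := LinearMap.exists_eq_smul_id_of_forall_notLinearIndependent (f := T) (by
    intro v hli
    rw [LinearIndependent.pair_iff] at hli
    by_cases hv : v = 0
    · have := hli 1 0 (by rw [hv]; simp)
      exact one_ne_zero this.1
    · obtain ⟨c, hc⟩ := Submodule.mem_span_singleton.mp (hS v v.2)
      have h2 := hli c (-1) (by
        apply Subtype.ext
        push_cast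
        rw [hT, hc, neg_one_smul, add_neg_cancel])
      exact one_ne_zero (neg_eq_zero.mp h2.2))
  have hc' : ∀ φ ∈ S, φ ᵥ* A = c • φ := by
    intro φ hφ
    have := congrArg Subtype.val (LinearMap.congr_fun hc ⟨φ, hφ⟩)
    rw [hT] at this
    exact this
  have hc0 : c ≠ 0 := by
    rintro rfl
    have h1 : S = ⊥ := by
      rw [eq_bot_iff]
      intro φ hφ
      have h2 := hc' φ hφ
      rw [zero_smul] at h2
      exact Matrix.eq_zero_of_vecMul_eq_zero hA h2
    rw [h1, finrank_bot] at hS0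
    omega
  refine ⟨c, hc0, ?_⟩
  have h1 : (A - c • 1).rank = (A - c • 1)ᵀ.rank := (rank_transpose _).symm
  have h2 := LinearMap.finrank_range_add_finrank_ker ((A - c • 1)ᵀ).mulVecLin
  have h3 : S ≤ LinearMap.ker ((A - c • 1)ᵀ).mulVecLin := by
    intro φ hφ
    rw [LinearMap.mem_ker, mulVecLin_apply, mulVec_transpose, vecMul_sub, hc' φ hφ, vecMul_smul, vecMul_one,
      sub_self]
  have h4 := Submodule.finrank_mono h3
  rw [finrank_fin_fun] at h2
  rw [h1, Matrix.rank]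
  omega

theorem scale_inj {c : F} (hc : c ≠ 0) {k : ℕ} {f g : F[X]}
    (h : C (c ^ k) * f.comp (C c⁻¹ * X) = C (c ^ k) * g.comp (C c⁻¹ * X)) : f = g := by
  have h1 : f.comp (C c⁻¹ * X) = g.comp (C c⁻¹ * X) :=
    mul_left_cancel₀ (C_ne_zero.2 (pow_ne_zero k hc)) h
  have h2 : ∀ p : F[X], (p.comp (C c⁻¹ * X)).comp (C c * X) = p := by
    intro p
    rw [comp_assoc, mul_comp, C_comp, X_comp, ← mul_assoc, ← C_mul, inv_mul_cancel₀ hc, C_1, one_mul, comp_X]
  rw [← h2 f, h1, h2 g]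

/-- the reciprocal polynomial -/
theorem NP.dual {d : ℕ} {f : F[X]} (h : NP d f) :
    (C ((-1) ^ d) * f.reverse).Monic ∧ (C ((-1) ^ d) * f.reverse).natDegree = d ∧
      (C ((-1) ^ d) * f.reverse).coeff 0 = (-1) ^ d ∧ f ≠ C ((-1) ^ d) * f.reverse := by
  have h0 : ((-1 : F)) ^ d ≠ 0 := pow_ne_zero _ (neg_ne_zero.2 one_ne_zero)
  have h1 : ((-1 : F)) ^ d * (-1) ^ d = 1 := by rw [← mul_pow, neg_one_mul, neg_neg, one_pow]
  refine ⟨?_, ?_, ?_, ?_⟩
  · rw [Monic, leadingCoeff_mul, leadingCoeff_C, reverse_leadingCoeff, trailingCoeff, natTrailingDegree_eq_zero.2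
      (Or.inr h.coeff_ne), h.c0, h1]
  · rw [natDegree_C_mul h0, natDegree_rev h.coeff_ne, h.deg]
  · rw [coeff_C_mul, coeff_zero_reverse, h.monic.leadingCoeff, mul_one]
  · intro h2
    have h3 : f ∣ f.reverse := by
      have h4 : C ((-1) ^ d) * f = f.reverse := by
        conv_lhs => rw [h2]
        rw [← mul_assoc, ← C_mul, h1, C_1, one_mul]
      exact ⟨C ((-1) ^ d), by rw [← h4, mul_comm]⟩
    exact h.irr.not_isUnit (h.cop.isUnit_of_dvd' dvd_rfl h3)

/-- **The engine in the model.** -/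
theorem eng_model [Finite F] [FiniteDimensional F V] (hQ : Nondeg Q) (hn : 3 ≤ n)
    (hV : finrank F V + 1 ≤ n) (hRK : RK F n (finrank F V)) {A : GL (Fin n) F}
    (hdet : (A : Matrix (Fin n) (Fin n) F).det = 1)
    (hns : (A : Matrix (Fin n) (Fin n) F) = 1 ∨ ∀ c : F, (A : Matrix (Fin n) (Fin n) F) ≠ c • (1 : Matrix (Fin n) (Fin n) F))
    {u₁ u₂ : M F V n ≃ₗ[F] M F V n} (hu₁ : u₁ ∈ Um n Q) (hu₂ : u₂ ∈ Up n Q) {p f : F[X]} (hp : NP n p)
    (hf : NP (n - 1) f) :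
    ∃ (X Y : GL (Fin n) F), ∃ v ∈ Om (MQ n Q), ∃ v' ∈ Om (MQ n Q),
      u₁ * lev A 1 * u₂ = (v * lev X 1 * v⁻¹) * (v' * lev Y 1 * v'⁻¹) ∧
      (X : Matrix (Fin n) (Fin n) F).charpoly = p ∧
      ((Y : Matrix (Fin n) (Fin n) F).charpoly = (Polynomial.X - C 1) * f ∨
        (Y : Matrix (Fin n) (Fin n) F).charpoly = p ∨
        ((Y⁻¹ : GL (Fin n) F) : Matrix (Fin n) (Fin n) F).charpoly = p) := by
  classical
  -- the general conclusion for `A = X * Z⁻¹`
  have key1 : ∀ X Z : GL (Fin n) F, A = X * Z⁻¹ → (X : Matrix (Fin n) (Fin n) F).charpoly = p →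
      (Z : Matrix (Fin n) (Fin n) F).charpoly = p →
      ∃ v ∈ Om (MQ n Q), ∃ v' ∈ Om (MQ n Q),
      u₁ * lev A 1 * u₂ = (v * lev X 1 * v⁻¹) * (v' * lev Z⁻¹ 1 * v'⁻¹) := by
    intro X Z hA hX hZ
    obtain ⟨v₁, -, hv₁, e₁⟩ := (hp.copr (V := V) (by omega) hX).exists_um (O Q).one_mem hu₁
    obtain ⟨v₂, -, hv₂, e₂⟩ := (hp.copr (V := V) (by omega) hZ).exists_up (O Q).one_mem ((Up n Q).inv_mem hu₂)
    refine ⟨v₁, hv₁, v₂, hv₂, ?_⟩
    have e3 : lev A (1 : V ≃ₗ[F] V) = lev X 1 * (lev Z 1)⁻¹ := by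
      rw [hA, ← lev_inv, inv_one, ← lev_mul, mul_one]
    have e4 : lev Z⁻¹ (1 : V ≃ₗ[F] V) = (lev Z 1)⁻¹ := by rw [← lev_inv, inv_one]
    rw [e4, ← e₁, e3]
    have e5 : v₂ * (lev Z 1)⁻¹ * v₂⁻¹ = (v₂ * lev Z 1 * v₂⁻¹)⁻¹ := by group
    rw [e5, ← e₂]
    group
  have key2 : ∀ X Y : GL (Fin n) F, A = X * Y → (X : Matrix (Fin n) (Fin n) F).charpoly = p →
      (Y : Matrix (Fin n) (Fin n) F).charpoly = p →
      ∃ v ∈ Om (MQ n Q), ∃ v' ∈ Om (MQ n Q),
      u₁ * lev A 1 * u₂ = (v * lev X 1 * v⁻¹) * (v' * lev Y 1 * v'⁻¹) := by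
    intro X Y hA hX hY
    obtain ⟨v₁, -, hv₁, e₁⟩ := (hp.copr (V := V) (by omega) hX).exists_um (O Q).one_mem hu₁
    obtain ⟨v₂, -, hv₂, e₂⟩ := (hp.copr (V := V) (by omega) hY).exists_up (O Q).one_mem
      (lev_conj_Up (A := Y) (h := 1) (O Q).one_mem hu₂)
    refine ⟨v₁, hv₁, v₂, hv₂, ?_⟩
    rw [← e₁, ← e₂]
    have e3 : lev A (1 : V ≃ₗ[F] V) = lev X 1 * lev Y 1 := by
      rw [hA, ← lev_mul, mul_one]
    rw [e3]
    group
  by_cases hA1 : (A : Matrix (Fin n) (Fin n) F) = 1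
  · obtain ⟨X, hX⟩ := exists_matrix p hp.monic hp.coeff_ne hp.deg
    obtain ⟨v, hv, v', hv', e⟩ := key1 X X (by rw [mul_inv_cancel]; exact Units.ext hA1) hX hX
    exact ⟨X, X⁻¹, v, hv, v', hv', e, hX, Or.inr (Or.inr (by rw [inv_inv]; exact hX))⟩
  by_cases hφ : ∃ φ ∈ annU u₂, φ ᵥ* (A : Matrix (Fin n) (Fin n) F) ∉ Submodule.span F {φ}
  · -- theorem A
    obtain ⟨φ, hφ, hφA⟩ := hφ
    have hφ0 : φ ≠ 0 := by
      rintro rfl
      apply hφA
      rw [zero_vecMul]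
      exact Submodule.zero_mem _
    obtain ⟨k, rfl⟩ : ∃ k, n = k + 2 := ⟨n - 2, by omega⟩
    obtain ⟨x, y, hxy, hxp, c, hc, hyc, hφy, hK⟩ := exists_mul_phi (A : Matrix (Fin (k + 2)) (Fin (k + 2)) F)
      (by rw [hdet]; exact one_ne_zero) hφ0 hφA hp.monic hp.deg hp.coeff_ne hf.monic
      (by rw [hf.deg]; rfl) hf.coeff_ne
    have hdx : x.det = 1 := det_of_charpoly hxp hp.c0
    have hdy : y.det = 1 := by
      have := congrArg Matrix.det hxy
      rw [hdet, det_mul, hdx, one_mul] at this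
      exact this.symm
    have hc1 : c = 1 := by
      have h1 := hdy
      rw [det_eq_sign_charpoly_coeff, hyc, mul_coeff_zero, hf.c0, Fintype.card_fin] at h1
      have h2 : (k + 2 - 1) = k + 1 := rfl
      rw [h2] at h1
      simp only [coeff_sub, coeff_X_zero, coeff_C_zero, zero_sub] at h1
      have h3 : (-1 : F) ^ (k + 2) * (-c * (-1) ^ (k + 1)) = c := by
        have h4 : (-1 : F) ^ (k + 2) * (-c * (-1) ^ (k + 1)) = c * ((-1) * (-1)) ^ (k + 2) := by
          rw [mul_pow, pow_succ (-1 : F) (k + 1)]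
          ring
        rw [h4, neg_one_mul, neg_neg, one_pow, mul_one]
      rw [h3] at h1
      exact h1
    subst hc1
    let X : GL (Fin (k + 2)) F := Matrix.GeneralLinearGroup.mkOfDetNeZero x (by rw [hdx]; exact one_ne_zero)
    let Y : GL (Fin (k + 2)) F := Matrix.GeneralLinearGroup.mkOfDetNeZero y (by rw [hdy]; exact one_ne_zero)
    have hYφ : PhiCop Y φ := phiCop_of hφ0 (by rw [one_smul] at hφy; exact hφy) hK hyc
      (hf.eval_ne (by omega) 1) (hf.eval_rev (by omega)) hf.cop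
    have hX : (X : Matrix (Fin (k + 2)) (Fin (k + 2)) F).charpoly = p := hxp
    obtain ⟨v₁, -, hv₁, e₁⟩ := (hp.copr (V := V) (by omega) hX).exists_um (O Q).one_mem hu₁
    obtain ⟨v₂, hv₂, e₂⟩ := hYφ.exists_up hQ (⟨hu₂, hφ⟩ : u₂ ∈ Uphi Q φ)
    refine ⟨X, Y, v₁, hv₁, v₂, hv₂, ?_, hX, Or.inl hyc⟩
    have hAXY : A = X * Y := Units.ext hxy
    have e3 : lev A (1 : V ≃ₗ[F] V) = lev X 1 * lev Y 1 := by
      rw [hAXY, ← lev_mul, mul_one]
    rw [← e₁, ← e₂, e3]
    group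
  · -- small rank
    push Not at hφ
    have h1 := finrank_annU u₂
    obtain ⟨c, hc, hr⟩ := exists_scalar (by rw [hdet]; exact one_ne_zero) hφ (by omega)
    have hAc : (A : Matrix (Fin n) (Fin n) F) ≠ c • 1 := (hns.resolve_left hA1) c
    have hrk : ((A : Matrix (Fin n) (Fin n) F) - c • 1).rank ≤ finrank F V := by omega
    by_cases hsc : p = C (c ^ n) * p.comp (C c⁻¹ * Polynomial.X)
    · obtain ⟨hg1, hg2, hg3, hg4⟩ := hp.dual
      obtain ⟨x, z, hxz, hx, hz⟩ := hRK _ c hdet hc hrk hAc p (C ((-1) ^ n) * p.reverse) hp.monic hp.deg hp.c0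
        hg1 hg2 hg3 (fun h' => hg4 (scale_inj hc (hsc.symm.trans h')))
      have hdz : z.det = 1 := det_of_charpoly hz hg3
      have hdx : x.det = 1 := det_of_charpoly hx hp.c0
      let X : GL (Fin n) F := Matrix.GeneralLinearGroup.mkOfDetNeZero x (by rw [hdx]; exact one_ne_zero)
      let Z : GL (Fin n) F := Matrix.GeneralLinearGroup.mkOfDetNeZero z (by rw [hdz]; exact one_ne_zero)
      have hAXZ : A = X * Z⁻¹ := by
        rw [eq_mul_inv_iff_mul_eq]
        exact Units.ext hxz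
      have hZ : ((Z⁻¹ : GL (Fin n) F) : Matrix (Fin n) (Fin n) F).charpoly = p := by
        have h2 := Matrix.charpoly_inv (Z : Matrix (Fin n) (Fin n) F) Z.isUnit
        rw [← coe_units_inv] at h2
        have h3 : (Z : Matrix (Fin n) (Fin n) F) = z := rfl
        rw [h2, h3, ← Matrix.reverse_charpoly, hz, hdz, Ring.inverse_one, C_1, mul_one, Fintype.card_fin,
          reverse_mul_of_domain, reverse_C, rev_rev hp.coeff_ne, ← mul_assoc, ← C_1, ← C_neg, ← C_pow, ← C_mul,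
          ← mul_pow, neg_one_mul, neg_neg, one_pow, C_1, one_mul]
      obtain ⟨v, hv, v', hv', e⟩ := key2 X Z⁻¹ hAXZ hx hZ
      exact ⟨X, Z⁻¹, v, hv, v', hv', e, hx, Or.inr (Or.inl hZ)⟩
    · obtain ⟨x, z, hxz, hx, hz⟩ := hRK _ c hdet hc hrk hAc p p hp.monic hp.deg hp.c0 hp.monic hp.deg hp.c0 hsc
      have hdz : z.det = 1 := det_of_charpoly hz hp.c0
      have hdx : x.det = 1 := det_of_charpoly hx hp.c0
      let X : GL (Fin n) F := Matrix.GeneralLinearGroup.mkOfDetNeZero x (by rw [hdx]; exact one_ne_zero)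
      let Z : GL (Fin n) F := Matrix.GeneralLinearGroup.mkOfDetNeZero z (by rw [hdz]; exact one_ne_zero)
      have hAXZ : A = X * Z⁻¹ := by
        rw [eq_mul_inv_iff_mul_eq]
        exact Units.ext hxz
      obtain ⟨v, hv, v', hv', e⟩ := key1 X Z hAXZ hx hz
      exact ⟨X, Z⁻¹, v, hv, v', hv', e, hx, Or.inr (Or.inr (by rw [inv_inv]; exact hz))⟩

/-- **The engine.** -/
theorem eng [Finite F] [FiniteDimensional F V] (hQ : Nondeg Q) {m : ℕ} (hm : 3 ≤ m)
    (hV : finrank F V + 1 ≤ 3 * m) (hRK : RK F m (finrank F V - 2 * m)) {g : V ≃ₗ[F] V} (hg : g ∈ O Q)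
    (hB : BaseCorner m Q g) {p f : F[X]} (hp : NP m p) (hf : NP (m - 1) f) :
    ∃ (w w' : Fin m → V) (hfr : Frame Q w w') (X Y : GL (Fin m) F), ∃ v ∈ Om (MQ m (res Q w w')),
      ∃ v' ∈ Om (MQ m (res Q w w')),
      autE hfr.toModel g = (v * lev X 1 * v⁻¹) * (v' * lev Y 1 * v'⁻¹) ∧
      (X : Matrix (Fin m) (Fin m) F).charpoly = p ∧
      ((Y : Matrix (Fin m) (Fin m) F).charpoly = (Polynomial.X - C 1) * f ∨
        (Y : Matrix (Fin m) (Fin m) F).charpoly = p ∨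
        ((Y⁻¹ : GL (Fin m) F) : Matrix (Fin m) (Fin m) F).charpoly = p) := by
  obtain ⟨w, w', hfr, hS, hdet, hA⟩ := hB
  have hfin := hfr.finrank_perp
  have hfin' : finrank F (perp Q w w') = finrank F V - 2 * m := by omega
  obtain ⟨u₁, hu₁, g₁, hg₁, u₂, hu₂, e⟩ := H141.SpinFacts.exists_decomp hfr hg
    (Matrix.GeneralLinearGroup.mkOfDetNeZero (corner Q g w w') (by rw [hdet]; exact one_ne_zero)) rfl
  have h1 := (H141.SpinFacts.schurOne_iff hfr hu₁ hu₂ e).1 hS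
  subst h1
  obtain ⟨X, Y, v, hv, v', hv', e', hX, hY⟩ := eng_model (hfr.nondeg_res hQ) hm (by omega)
    (by rw [hfin']; exact hRK)
    (A := Matrix.GeneralLinearGroup.mkOfDetNeZero (corner Q g w w') (by rw [hdet]; exact one_ne_zero)) hdet
    (hA.imp id And.left) hu₁ hu₂ hp hf
  exact ⟨w, w', hfr, X, Y, v, hv, v', hv', e.trans e', hX, hY⟩

/-- **The row**: `e`-th powers. -/
theorem row [Finite F] [FiniteDimensional F V] (hQ : Nondeg Q) {m : ℕ} (hm : 3 ≤ m)
    (hV : finrank F V + 1 ≤ 3 * m) (hRK : RK F m (finrank F V - 2 * m)) {g : V ≃ₗ[F] V} (hg : g ∈ O Q)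
    (hB : BaseCorner m Q g) {r e : ℕ} (he : 1 ≤ e) {p f : F[X]} (hp : GP r e m p) (hf : GP r e (m - 1) f) :
    ∃ x ∈ Om Q, ∃ y ∈ Om Q, g = x ^ e * y ^ e ∧ (orderOf x).Coprime r ∧ (orderOf y).Coprime r := by
  obtain ⟨w, w', hfr, X, Y, v, hv, v', hv', h, hX, hY⟩ := eng hQ hm hV hRK hg hB hp.np hf.np
  have hQ1 := hfr.nondeg_res hQ
  have hG : Good (MQ m (res Q w w')) := by
    apply good_of_finite (nondeg_MQ hQ1)
    rw [← hfr.toModel.finrank_eq]
    have := hfr.finrank_perp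
    omega
  have he' : ∀ v, MQ m (res Q w w') (hfr.toModel v) = Q v := hfr.MQ_toModel
  have h1 : EP r e (Om (MQ m (res Q w w'))) (v * lev X 1 * v⁻¹) := (hp.ep hG he (by omega) hX).conj hv
  have h2 : EP r e (Om (MQ m (res Q w w'))) (v' * lev Y 1 * v'⁻¹) := by
    refine EP.conj ?_ hv'
    rcases hY with hY | hY | hY
    · exact hf.ep_one hG he (by omega) (by omega) hY
    · exact hp.ep hG he (by omega) hY
    · have h3 := (hp.ep hG he (by omega) hY).inv
      have h4 : (lev Y⁻¹ (1 : perp Q w w' ≃ₗ[F] perp Q w w'))⁻¹ = lev Y 1 := by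
        rw [← lev_inv, inv_inv, inv_one]
      rwa [h4] at h3
  obtain ⟨x, hx, ex, ox⟩ := h1
  obtain ⟨y, hy, ey, oy⟩ := h2
  have horder : ∀ z, orderOf ((autE hfr.toModel).symm z) = orderOf z := fun z =>
    orderOf_injective (autE hfr.toModel).symm.toMonoidHom (autE hfr.toModel).symm.injective z
  refine ⟨(autE hfr.toModel).symm x, ?_, (autE hfr.toModel).symm y, ?_, ?_, ?_, ?_⟩
  · rw [← autE_mem_Om he', MulEquiv.apply_symm_apply]; exact hx
  · rw [← autE_mem_Om he', MulEquiv.apply_symm_apply]; exact hy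
  · apply (autE hfr.toModel).injective
    rw [h, ex, ey, map_mul, map_pow, map_pow, MulEquiv.apply_symm_apply, MulEquiv.apply_symm_apply]
  · rw [horder]; exact ox
  · rw [horder]; exact oy

end Cfsg.Agent.H295.War
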