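import Cfsg.Agent.H434.CornMain
import Cfsg.Agent.LieClassical.OrthForms

/-!
# The Witt index of the standard forms (helper295, S2453)
-/

set_option autoImplicit false

namespace Cfsg.Agent.H295.War

open Module QuadraticMap Cfsg.Agent.LieClassical.OrthCore Cfsg.Agent.LieClassical.OrthTrans
  Cfsg.Agent.LieClassical.OrthForms Cfsg.Agent.H434.Corn

variable {F : Type*} [Field F]

/-- a maximal totally singular subspace given by an injective map -/
theorem wittOf {ι : Type*} [Fintype ι] {Q : QuadraticForm F (ι → F)} {m : ℕ} (T : (Fin m → F) →ₗ[F] (ι → F))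
    (hT : Function.Injective T) (h1 : ∀ c, Q (T c) = 0)
    (h2 : ∀ x, Q x = 0 → (∀ c, polar Q (T c) x = 0) → ∃ c, T c = x) :
    ∀ W, MaxTS Q W → finrank F W = m := by
  intro W hW
  have h3 : MaxTS Q (LinearMap.range T) := by
    refine ⟨?_, fun x hx h => ?_⟩
    · rintro _ ⟨c, rfl⟩
      exact h1 c
    · obtain ⟨c, hc⟩ := h2 x hx (fun c => h _ ⟨c, rfl⟩)
      exact ⟨c, hc⟩
  rw [h3.finrank_eq hW, LinearMap.finrank_range_of_inj hT, finrank_fin_fun]

/-- `c ↦ (c, 0)` -/
def inlL (F : Type*) [Field F] (α β : Type*) : (α → F) →ₗ[F] (α ⊕ β → F) where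
  toFun c := Sum.elim c 0
  map_add' a b := by ext (i | i) <;> simp
  map_smul' a b := by ext (i | i) <;> simp

@[simp] theorem inlL_inl {α β : Type*} (c : α → F) (i : α) : inlL F α β c (Sum.inl i) = c i := rfl
@[simp] theorem inlL_inr {α β : Type*} (c : α → F) (i : β) : inlL F α β c (Sum.inr i) = 0 := rfl

/-- `c ↦ (0, c)` -/
def inrL (F : Type*) [Field F] (α β : Type*) : (β → F) →ₗ[F] (α ⊕ β → F) where
  toFun c := Sum.elim 0 c
  map_add' a b := by ext (i | i) <;> simp
  map_smul' a b := by ext (i | i) <;> simp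

@[simp] theorem inrL_inl {α β : Type*} (c : β → F) (i : α) : inrL F α β c (Sum.inl i) = 0 := rfl
@[simp] theorem inrL_inr {α β : Type*} (c : β → F) (i : β) : inrL F α β c (Sum.inr i) = c i := rfl

theorem inlL_inj {α β : Type*} : Function.Injective (inlL F α β) := by
  intro a b h
  funext i
  have := congrFun h (Sum.inl i)
  simpa using this

theorem inrL_inj {α β : Type*} : Function.Injective (inrL F α β) := by
  intro a b h
  funext i
  have := congrFun h (Sum.inr i)
  simpa using this

theorem witt_plus (m : ℕ) : ∀ W, MaxTS (plusForm m F) W → finrank F W = m := by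
  refine wittOf (inlL F (Fin m) (Fin m)) inlL_inj (fun c => ?_) (fun x hx h => ?_)
  · rw [coe_plusForm, quadFormPlus_apply]
    simp
  · refine ⟨fun i => x (Sum.inl i), ?_⟩
    ext (i | i)
    · rfl
    · have h1 := h (Pi.single i 1)
      rw [polar_plusForm] at h1
      simp [Pi.single_apply] at h1
      simpa using h1.symm

theorem witt_minus (m : ℕ) (a b : F)
    (hab : ∀ z₁ z₂ : F, z₁ ^ 2 + a * z₁ * z₂ + b * z₂ ^ 2 = 0 → z₁ = 0 ∧ z₂ = 0) :
    ∀ W, MaxTS (minusForm m F a b) W → finrank F W = m := by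
  refine wittOf (inlL F (Fin m ⊕ Fin m) (Fin 2) ∘ₗ inlL F (Fin m) (Fin m)) (inlL_inj.comp inlL_inj)
    (fun c => ?_) (fun x hx h => ?_)
  · rw [coe_minusForm, quadFormMinus_apply]
    simp
  · have h0 : ∀ i, x (Sum.inl (Sum.inr i)) = 0 := by
      intro i
      have h1 := h (Pi.single i 1)
      rw [polar_minusForm] at h1
      simp [Pi.single_apply] at h1
      exact h1
    rw [coe_minusForm, quadFormMinus_apply] at hx
    simp only [h0, mul_zero, Finset.sum_const_zero, zero_add] at hx
    obtain ⟨h2, h3⟩ := hab _ _ hx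
    refine ⟨fun i => x (Sum.inl (Sum.inl i)), ?_⟩
    ext ((i | i) | i)
    · rfl
    · simp [h0]
    · fin_cases i
      · simpa using h2.symm
      · simpa using h3.symm

theorem witt_odd (m : ℕ) : ∀ W, MaxTS (oddForm m F) W → finrank F W = m := by
  refine wittOf (inrL F Unit (Fin m ⊕ Fin m) ∘ₗ inlL F (Fin m) (Fin m)) (inrL_inj.comp inlL_inj)
    (fun c => ?_) (fun x hx h => ?_)
  · rw [coe_oddForm, quadFormOdd_apply]
    simp
  · have h0 : ∀ i, x (Sum.inr (Sum.inr i)) = 0 := by
      intro i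
      have h1 := h (Pi.single i 1)
      rw [polar_oddForm] at h1
      simp [Pi.single_apply] at h1
      exact h1
    rw [coe_oddForm, quadFormOdd_apply] at hx
    simp only [h0, mul_zero, Finset.sum_const_zero, add_zero] at hx
    refine ⟨fun i => x (Sum.inr (Sum.inl i)), ?_⟩
    ext (i | (i | i))
    · simpa using (pow_eq_zero_iff (two_ne_zero)).1 hx |>.symm
    · rfl
    · simp [h0]

end Cfsg.Agent.H295.War
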