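import Mathlib

/-!
# Good polynomials (helper295, S2453, L5/L6)

`GP p e d f` : `f` is monic irreducible of degree `d`, `f(0) = (-1)^d` (norm one), prime to its reciprocal, and its
roots are `2e`-th powers of elements of order prime to `p`.
-/

set_option autoImplicit false

namespace Cfsg.Agent.H295.War

open Polynomial

/-- good polynomials -/
structure GP {F : Type*} [Field F] (p e d : ℕ) (f : F[X]) : Prop where
  monic : f.Monic
  irr : Irreducible f
  deg : f.natDegree = d
  c0 : f.coeff 0 = (-1) ^ d
  cop : IsCoprime f f.reverse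
  root : ∃ (r : F[X]) (N : ℕ), N.Coprime p ∧ f ∣ r ^ (2 * e) - X ∧ f ∣ r ^ N - 1

end Cfsg.Agent.H295.War
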