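import Cfsg.Agent.H295.War.Up
import Cfsg.Agent.H295.War.Defs
import Cfsg.Agent.H140.OreO.PolyB

/-!
# Roots of Levi elements (helper295, S2453)

`EP p e H g` : `g = x ^ e`, `x ∈ H` of order prime to `p`. `ep_lev` : Levi elements with a good characteristic
polynomial.
-/

set_option autoImplicit false
set_option linter.unusedSectionVars false

namespace Cfsg.Agent.H295.War

open QuadraticMap Cfsg.Agent.LieClassical.OrthCore Cfsg.Agent.LieClassical.OrthTrans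
  Cfsg.Agent.LieClassical.OrthFinite Matrix Cfsg.Agent.H140.OreO Polynomial

/-- `g = x ^ e` with `x ∈ H` of order prime to `p` -/
def EP {G : Type*} [Group G] (p e : ℕ) (H : Subgroup G) (g : G) : Prop :=
  ∃ x ∈ H, g = x ^ e ∧ (orderOf x).Coprime p

theorem EP.conj {G : Type*} [Group G] {p e : ℕ} {H : Subgroup G} {g v : G} (h : EP p e H g) (hv : v ∈ H) :
    EP p e H (v * g * v⁻¹) := by
  obtain ⟨x, hx, rfl, ho⟩ := h
  refine ⟨v * x * v⁻¹, H.mul_mem (H.mul_mem hv hx) (H.inv_mem hv), ?_, ?_⟩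
  · rw [conj_pow]
  · have : orderOf (v * x * v⁻¹) = orderOf x := by
      have h1 := orderOf_injective (MulAut.conj v).toMonoidHom (MulAut.conj v).injective x
      simpa using h1
    rw [this]; exact ho

theorem EP.inv {G : Type*} [Group G] {p e : ℕ} {H : Subgroup G} {g : G} (h : EP p e H g) : EP p e H g⁻¹ := by
  obtain ⟨x, hx, rfl, ho⟩ := h
  exact ⟨x⁻¹, H.inv_mem hx, by rw [inv_pow], by rwa [orderOf_inv]⟩

variable {F V : Type*} [Field F] [AddCommGroup V] [Module F V] {n : ℕ} {Q : QuadraticForm F V}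

theorem lev_pow (A : GL (Fin n) F) (k : ℕ) : (lev A (1 : V ≃ₗ[F] V)) ^ k = lev (A ^ k) 1 := by
  induction k with
  | zero => rw [pow_zero, pow_zero, lev_one]
  | succ k ih => rw [pow_succ, pow_succ, ih, ← lev_mul, mul_one]

theorem lev_sq_mem (hG : Good (MQ n Q)) (hn : 0 < n) (A : GL (Fin n) F) :
    (lev A (1 : V ≃ₗ[F] V)) ^ 2 ∈ Om (MQ n Q) := by
  rw [lev_pow]
  obtain ⟨d, hd⟩ : ∃ d : Fˣ, (A : Matrix (Fin n) (Fin n) F).det = d :=
    ⟨GeneralLinearGroup.det A, rfl⟩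
  have h1 : ((A ^ 2 : GL (Fin n) F) : Matrix (Fin n) (Fin n) F).det = ((d * d : Fˣ) : F) := by
    rw [Units.val_pow_eq_pow_val, det_pow, hd, Units.val_mul, pow_two]
  have h2 := (lev_cl (V := V) hG hn h1).sq hG (t := d⁻¹)
  have h3 : d * d * (d⁻¹ * d⁻¹) = 1 := by group
  rw [h3] at h2
  exact h2.mem_Om hG

/-- **Roots.** -/
theorem ep_lev (hG : Good (MQ n Q)) (hn : 0 < n) {p e : ℕ} (he : 1 ≤ e) {Y : GL (Fin n) F} {s : F[X]}
    {N : ℕ} (hN : N.Coprime p) (h1 : (Y : Matrix (Fin n) (Fin n) F).charpoly ∣ s ^ (2 * e) - X)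
    (h2 : (Y : Matrix (Fin n) (Fin n) F).charpoly ∣ s ^ N - 1) : EP p e (Om (MQ n Q)) (lev Y (1 : V ≃ₗ[F] V)) := by
  have ha : ∀ P : F[X], (Y : Matrix (Fin n) (Fin n) F).charpoly ∣ P →
      aeval (Y : Matrix (Fin n) (Fin n) F) P = 0 := by
    rintro _ ⟨R, rfl⟩
    rw [map_mul, aeval_self_charpoly, zero_mul]
  have h3 : (aeval (Y : Matrix (Fin n) (Fin n) F) s) ^ (2 * e) = (Y : Matrix (Fin n) (Fin n) F) := by
    have := ha _ h1
    rwa [map_sub, map_pow, aeval_X, sub_eq_zero] at this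
  have h4 : (aeval (Y : Matrix (Fin n) (Fin n) F) s) ^ N = 1 := by
    have := ha _ h2
    rwa [map_sub, map_pow, map_one, sub_eq_zero] at this
  have hu : IsUnit (aeval (Y : Matrix (Fin n) (Fin n) F) s) := by
    rw [← isUnit_pow_iff (n := 2 * e) (by omega), h3]
    exact Y.isUnit
  obtain ⟨Z, hZ⟩ := hu
  have hZe : Z ^ (2 * e) = Y := Units.ext (by rw [Units.val_pow_eq_pow_val, hZ, h3])
  have hZN : Z ^ N = 1 := Units.ext (by rw [Units.val_pow_eq_pow_val, hZ, h4, Units.val_one])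
  refine ⟨(lev Z 1) ^ 2, lev_sq_mem hG hn Z, ?_, ?_⟩
  · rw [← pow_mul, lev_pow, hZe]
  · refine Nat.Coprime.coprime_dvd_left ?_ hN
    rw [orderOf_dvd_iff_pow_eq_one, ← pow_mul, mul_comm, pow_mul, lev_pow, hZN, lev_one, one_pow]

/-! ### Good polynomials -/

theorem GP.coeff_ne {p e d : ℕ} {f : F[X]} (h : GP p e d f) : f.coeff 0 ≠ 0 := by
  rw [h.c0]
  exact pow_ne_zero _ (neg_ne_zero.2 one_ne_zero)

theorem GP.eval_one {p e d : ℕ} {f : F[X]} (h : GP p e d f) (hd : 2 ≤ d) (x : F) : f.eval x ≠ 0 := by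
  intro hx
  have h1 : X - C x ∣ f := dvd_iff_isRoot.2 hx
  have h2 := ((irreducible_X_sub_C x).dvd_irreducible_iff_associated h.irr).1 h1
  have h3 := natDegree_eq_of_degree_eq (degree_eq_degree_of_associated h2)
  rw [natDegree_X_sub_C, h.deg] at h3
  omega

theorem GP.eval_rev {p e d : ℕ} {f : F[X]} (h : GP p e d f) (hd : 2 ≤ d) : f.reverse.eval 1 ≠ 0 := by
  intro h1
  have h2 : eval₂ (RingHom.id F) 1 (reverse f) * (1 : F) ^ f.natDegree = eval₂ (RingHom.id F) 1 f := by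
    have h3 : Invertible (1 : F) := invertibleOne
    have := eval₂_reverse_mul_pow (RingHom.id F) (1 : F) f
    rwa [invOf_one] at this
  rw [one_pow, mul_one] at h2
  change f.reverse.eval 1 = f.eval 1 at h2
  exact h.eval_one hd 1 (by rw [← h2, h1])

theorem un_one' {c : F[X]} (h : c.eval 1 ≠ 0) : Un ((1 : V ≃ₗ[F] V) : Module.End F V) c := by
  have e : aeval ((1 : V ≃ₗ[F] V) : Module.End F V) c = algebraMap F (Module.End F V) (c.eval 1) := by
    have h1 : ((1 : V ≃ₗ[F] V) : Module.End F V) = algebraMap F (Module.End F V) 1 := by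
      rw [map_one]; rfl
    rw [h1, aeval_algebraMap_apply]
    rfl
  rw [Un, e]
  exact h.isUnit.map _

/-- irreducible good blocks -/
theorem GP.copr {p e : ℕ} {f : F[X]} (h : GP p e n f) (hn : 2 ≤ n) {Y : GL (Fin n) F}
    (hY : (Y : Matrix (Fin n) (Fin n) F).charpoly = f) : Cop Y (1 : V ≃ₗ[F] V) := by
  apply cop_of_charpoly
  · rw [hY]; exact un_one' (h.eval_one hn 1)
  · rw [hY]; exact un_one' (h.eval_rev hn)
  · rw [hY]; exact h.cop

theorem GP.ep (hG : Good (MQ n Q)) {p e : ℕ} (he : 1 ≤ e) {f : F[X]} (h : GP p e n f) (hn : 2 ≤ n)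
    {Y : GL (Fin n) F} (hY : (Y : Matrix (Fin n) (Fin n) F).charpoly = f) :
    EP p e (Om (MQ n Q)) (lev Y (1 : V ≃ₗ[F] V)) := by
  obtain ⟨r, N, hN, h1, h2⟩ := h.root
  exact ep_lev hG (by omega) he hN (by rwa [hY]) (by rwa [hY])

/-- good blocks `1 + f` -/
theorem GP.ep_one (hG : Good (MQ n Q)) {p e d : ℕ} (he : 1 ≤ e) {f : F[X]} (h : GP p e d f)
    (hd : 2 ≤ d) (hn : 0 < n)
    {Y : GL (Fin n) F} (hY : (Y : Matrix (Fin n) (Fin n) F).charpoly = (X - C 1) * f) :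
    EP p e (Om (MQ n Q)) (lev Y (1 : V ≃ₗ[F] V)) := by
  obtain ⟨r, N, hN, h1, h2⟩ := h.root
  have hco : IsCoprime (X - C 1) f := by
    refine (irreducible_X_sub_C (1 : F)).coprime_iff_not_dvd.2 (fun h' => h.eval_one hd 1 (dvd_iff_isRoot.1 h'))
  obtain ⟨a, b, hab⟩ := hco
  -- `s ≡ 1 mod X - 1`, `s ≡ r mod f`
  obtain ⟨s, hs⟩ : ∃ s, s = r * (a * (X - C 1)) + b * f := ⟨_, rfl⟩
  have hs1 : X - C 1 ∣ s - 1 := ⟨r * a - a, by rw [hs, ← hab]; ring⟩
  have hs2 : f ∣ s - r := ⟨b - r * b, by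
    have : s - r = r * (a * (X - C 1) + b * f) - r * b * f + b * f - r := by rw [hs]; ring
    rw [this, hab]; ring⟩
  have hpow : ∀ (P u v : F[X]) (k : ℕ), P ∣ u - v → P ∣ u ^ k - v ^ k := fun P u v k h' =>
    h'.trans (sub_dvd_pow_sub_pow u v k)
  have hco : IsCoprime (X - C 1) f := ⟨a, b, hab⟩
  refine ep_lev hG hn he hN (s := s) ?_ ?_
  · rw [hY]
    refine hco.mul_dvd ?_ ?_
    · have h3 := hpow _ _ _ (2 * e) hs1
      rw [one_pow] at h3
      have h4 : s ^ (2 * e) - X = (s ^ (2 * e) - 1) - (X - C 1) := by rw [C_1]; ring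
      rw [h4]
      exact dvd_sub h3 dvd_rfl
    · have h3 := hpow _ _ _ (2 * e) hs2
      have h4 : s ^ (2 * e) - X = (s ^ (2 * e) - r ^ (2 * e)) + (r ^ (2 * e) - X) := by ring
      rw [h4]
      exact dvd_add h3 h1
  · rw [hY]
    refine hco.mul_dvd ?_ ?_
    · have h3 := hpow _ _ _ N hs1
      rwa [one_pow] at h3
    · have h3 := hpow _ _ _ N hs2
      have h4 : s ^ N - 1 = (s ^ N - r ^ N) + (r ^ N - 1) := by ring
      rw [h4]
      exact dvd_add h3 h2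

end Cfsg.Agent.H295.War
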