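import Cfsg.Agent.H140.OreO.Step
import Cfsg.Agent.H140.OreO.Poly

/-!
# Levi elements with a fixed functional (helper295, S2453)

`PhiCop Y φ` : `φ Y = φ`, no fixed vector in `ker φ`, no alternating intertwiner. Then `lev Y 1` has no fixed
points on the subgroup `Uphi φ` of `U⁺`.
-/

set_option autoImplicit false
set_option linter.unusedSectionVars false

namespace Cfsg.Agent.H295.War

open QuadraticMap Cfsg.Agent.LieClassical.OrthCore Cfsg.Agent.LieClassical.OrthTrans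
  Cfsg.Agent.LieClassical.OrthFinite Matrix Cfsg.Agent.H140.OreO Polynomial

variable {F V : Type*} [Field F] [AddCommGroup V] [Module F V] {n : ℕ} {Q : QuadraticForm F V}

/-- `φ` is fixed, no fixed vector in `ker φ`, no alternating intertwiner. -/
structure PhiCop (Y : GL (Fin n) F) (φ : Fin n → F) : Prop where
  fix : φ ᵥ* (Y : Matrix (Fin n) (Fin n) F) = φ
  b : ∀ w, φ ⬝ᵥ w = 0 → (Y : Matrix (Fin n) (Fin n) F) *ᵥ w = w → w = 0
  c : ∀ f : (Fin n → F) →ₗ[F] (Fin n → F), (∀ a, a ⬝ᵥ f a = 0) →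
    (∀ a, f ((ti Y : Matrix (Fin n) (Fin n) F) *ᵥ a) = (Y : Matrix (Fin n) (Fin n) F) *ᵥ f a) →
    f = 0

/-- The subgroup of `U⁺` of the elements with middle part in `ker φ`. -/
def Uphi (Q : QuadraticForm F V) (φ : Fin n → F) : Subgroup (M F V n ≃ₗ[F] M F V n) where
  carrier := {u | u ∈ Up n Q ∧ ∀ v, φ ⬝ᵥ (u (0, v, 0)).1 = 0}
  one_mem' := ⟨(Up n Q).one_mem, fun v => by simp⟩
  mul_mem' {a b} ha hb := by
    refine ⟨(Up n Q).mul_mem ha.1 hb.1, fun v => ?_⟩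
    have h1 : b (0, v, 0) = ((b (0, v, 0)).1, 0, 0) + (0, v, 0) :=
      Prod.ext (by simp) (Prod.ext (by simpa using hb.1.2.2.1 (0, v, 0) rfl)
        (by simpa using hb.1.2.1 (0, v, 0)))
    show φ ⬝ᵥ (a (b (0, v, 0))).1 = 0
    rw [h1, map_add, ha.1.2.2.2 ((b (0, v, 0)).1, 0, 0) rfl rfl, Prod.fst_add, dotProduct_add, ha.2 v, add_zero]
    exact hb.2 v
  inv_mem' {a} ha := by
    refine ⟨(Up n Q).inv_mem ha.1, fun v => ?_⟩
    have hi := (Up n Q).inv_mem ha.1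
    have h1 : a⁻¹ (0, v, 0) = ((a⁻¹ (0, v, 0)).1, 0, 0) + (0, v, 0) :=
      Prod.ext (by simp) (Prod.ext (by simpa using hi.2.2.1 (0, v, 0) rfl)
        (by simpa using hi.2.1 (0, v, 0)))
    have h2 : a (a⁻¹ (0, v, 0)) = (0, v, 0) := LinearEquiv.apply_symm_apply a _
    rw [h1, map_add, ha.1.2.2.2 ((a⁻¹ (0, v, 0)).1, 0, 0) rfl rfl] at h2
    have h3 := congrArg (fun z => φ ⬝ᵥ z.1) h2
    simp only [Prod.fst_add, dotProduct_add, ha.2 v, add_zero, dotProduct_zero] at h3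
    exact h3

theorem Uphi_le (φ : Fin n → F) : Uphi Q φ ≤ Up n Q := fun _ h => h.1

theorem lev_conj_Uphi {Y : GL (Fin n) F} {φ : Fin n → F} (hY : φ ᵥ* (Y : Matrix (Fin n) (Fin n) F) = φ)
    {u : M F V n ≃ₗ[F] M F V n} (hu : u ∈ Uphi Q φ) :
    lev Y 1 * u * (lev Y 1)⁻¹ ∈ Uphi Q φ := by
  refine ⟨lev_conj_Up (O Q).one_mem hu.1, fun v => ?_⟩
  rw [← lev_inv]
  show φ ⬝ᵥ (lev Y 1 (u (lev Y⁻¹ 1⁻¹ (0, v, 0)))).1 = 0
  have h1 : lev Y⁻¹ (1⁻¹ : V ≃ₗ[F] V) (0, v, 0) = (0, v, 0) := by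
    rw [lev_apply, inv_one]
    simp
  rw [h1, lev_apply, dotProduct_mulVec, hY]
  exact hu.2 v

/-- **No fixed points.** -/
theorem PhiCop.up {Y : GL (Fin n) F} {φ : Fin n → F} (hY : PhiCop Y φ) (hQ : Nondeg Q)
    {u : M F V n ≃ₗ[F] M F V n} (hu : u ∈ Uphi Q φ) (hcomm : u * lev Y 1 = lev Y 1 * u) : u = 1 := by
  have hx : ∀ x, u (lev Y 1 x) = lev Y 1 (u x) := fun x => LinearEquiv.congr_fun hcomm x
  have e2' : ∀ v, (u (0, v, 0)).1 = 0 := by
    intro v
    refine hY.b _ (hu.2 v) ?_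
    have := hx (0, v, 0)
    rw [lev_apply, lev_apply] at this
    simp only [mulVec_zero, LinearEquiv.coe_one, id_eq] at this
    exact (congrArg (fun y => y.1) this).symm
  have e1' : ∀ a, (u (0, 0, a)).2.1 = 0 := by
    intro a
    apply hQ
    intro v
    have h1 := polar_map hu.1.1 (0, 0, a) (0, v, 0)
    rw [polar_MQ, polar_MQ, e2' v, hu.1.2.1 (0, v, 0), hu.1.2.2.1 (0, v, 0) rfl] at h1
    simpa using h1
  let f3 : (Fin n → F) →ₗ[F] (Fin n → F) := LinearMap.fst F (Fin n → F) (V × (Fin n → F)) ∘ₗ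
    (u : M F V n →ₗ[F] M F V n) ∘ₗ LinearMap.inr F (Fin n → F) (V × (Fin n → F)) ∘ₗ
    LinearMap.inr F V (Fin n → F)
  have e3 : f3 = 0 := by
    apply hY.c
    · intro a
      have h1 := mem_O.1 hu.1.1 (0, 0, a)
      rw [MQ_apply, MQ_apply', hu.1.2.1, e1', dotProduct_comm] at h1
      show a ⬝ᵥ (u (0, 0, a)).1 = 0
      simpa using h1
    · intro a
      have := hx (0, 0, a)
      rw [lev_apply, lev_apply] at this
      simp only [mulVec_zero, map_zero] at this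
      exact congrArg (fun y => y.1) this
  have e3' : ∀ a, (u (0, 0, a)).1 = 0 := fun a => LinearMap.congr_fun e3 a
  apply LinearEquiv.ext
  intro x
  have hd : x = (x.1, 0, 0) + ((0, x.2.1, 0) + (0, 0, x.2.2)) := by
    refine Prod.ext (by simp) (Prod.ext (by simp) (by simp))
  have h1 : u (0, 0, x.2.2) = (0, 0, x.2.2) :=
    Prod.ext (e3' _) (Prod.ext (e1' _) (hu.1.2.1 _))
  have h2 : u (0, x.2.1, 0) = (0, x.2.1, 0) :=
    Prod.ext (e2' _) (Prod.ext (hu.1.2.2.1 _ rfl) (hu.1.2.1 _))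
  have h3 : u (x.1, 0, 0) = (x.1, 0, 0) := hu.1.2.2.2 _ rfl rfl
  conv_lhs => rw [hd, map_add, map_add, h1, h2, h3, ← hd]
  rfl

theorem PhiCop.exists_up [Finite F] [FiniteDimensional F V] {Y : GL (Fin n) F} {φ : Fin n → F} (hY : PhiCop Y φ)
    (hQ : Nondeg Q) {u : M F V n ≃ₗ[F] M F V n} (hu : u ∈ Uphi Q φ) :
    ∃ v ∈ Om (MQ n Q), lev Y 1 * u = v * lev Y 1 * v⁻¹ := by
  have := finite_subgroup (Uphi Q φ)
  have key : ∀ u ∈ Uphi Q φ, ∃ v ∈ Uphi Q φ, u = v * lev Y 1 * v⁻¹ * (lev Y 1)⁻¹ := fun u hu =>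
    exists_comm (Uphi Q φ) (lev Y 1) (fun u hu => lev_conj_Uphi hY.fix hu) (fun u hu => hY.up hQ hu) hu
  have hOm : ∀ u ∈ Uphi Q φ, u ∈ Om (MQ n Q) := fun u hu => by
    obtain ⟨v, hv, rfl⟩ := key u hu
    exact comm_mem_Om hv.1.1 (lev_mem (O Q).one_mem)
  obtain ⟨v, hv, e⟩ := key _ (lev_conj_Uphi hY.fix hu)
  exact ⟨v, hOm v hv, by
    have h1 : lev Y 1 * u = (lev Y 1 * u * (lev Y 1)⁻¹) * lev Y 1 := by group
    rw [h1, e]; group⟩

/-! ### Polynomial criterion -/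

theorem dot_zero_span {φ r : Fin n → F} (hφ : φ ≠ 0) (h : ∀ w, φ ⬝ᵥ w = 0 → r ⬝ᵥ w = 0) :
    ∃ c : F, r = c • φ := by
  obtain ⟨j, hj⟩ : ∃ j, φ j ≠ 0 := by
    by_contra hcon
    push Not at hcon
    exact hφ (funext hcon)
  refine ⟨r j / φ j, ?_⟩
  ext i
  have h1 := h (Pi.single i (φ j) - Pi.single j (φ i)) (by
    rw [dotProduct_sub, dotProduct_single, dotProduct_single]; ring)
  rw [dotProduct_sub, dotProduct_single, dotProduct_single, sub_eq_zero] at h1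
  rw [Pi.smul_apply, smul_eq_mul]
  field_simp
  linear_combination h1

theorem pow_ti_mulVec (Y : GL (Fin n) F) (T : (Fin n → F) →ₗ[F] (Fin n → F))
    (hT : ∀ a, T ((ti Y : Matrix (Fin n) (Fin n) F) *ᵥ a) = (Y : Matrix (Fin n) (Fin n) F) *ᵥ T a) (i : ℕ)
    (a : Fin n → F) :
    (Y : Matrix (Fin n) (Fin n) F) ^ i *ᵥ T (((Y : Matrix (Fin n) (Fin n) F)ᵀ) ^ i *ᵥ a) = T a := by
  have h1 : ∀ a, (Y : Matrix (Fin n) (Fin n) F) *ᵥ T ((Y : Matrix (Fin n) (Fin n) F)ᵀ *ᵥ a) = T a := by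
    intro a
    rw [← hT, mulVec_mulVec, ti_coe, ← transpose_mul, ← Units.val_mul, mul_inv_cancel, Units.val_one,
      transpose_one, one_mulVec]
  induction i generalizing a with
  | zero => simp
  | succ i ih => rw [pow_succ, pow_succ', ← mulVec_mulVec, ← mulVec_mulVec, h1, ih]

theorem aeval_transpose (B : Matrix (Fin n) (Fin n) F) (p : F[X]) : aeval Bᵀ p = (aeval B p)ᵀ := by
  induction p using Polynomial.induction_on' with
  | add p q hp hq => rw [map_add, map_add, hp, hq, transpose_add]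
  | monomial k a => simp [aeval_monomial, transpose_pow, Algebra.algebraMap_eq_smul_one]

theorem aeval_reverse_eq (B : Matrix (Fin n) (Fin n) F) (f : F[X]) :
    aeval B f.reverse = ∑ i ∈ Finset.range (f.natDegree + 1), f.coeff i • B ^ (f.natDegree - i) := by
  rw [aeval_eq_sum_range' (n := f.natDegree + 1) (Nat.lt_succ_of_le (reverse_natDegree_le f))]
  rw [← Finset.sum_range_reflect]
  refine Finset.sum_congr rfl fun i hi => ?_
  rw [Finset.mem_range] at hi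
  have h1 : f.natDegree + 1 - 1 - i = f.natDegree - i := by omega
  rw [h1, coeff_reverse, revAt_le (by omega)]
  congr 2
  omega

/-- The criterion for `PhiCop`. -/
theorem phiCop_of {Y : GL (Fin n) F} {φ : Fin n → F} (hφ : φ ≠ 0)
    (hfix : φ ᵥ* (Y : Matrix (Fin n) (Fin n) F) = φ) {f : F[X]}
    (hK : ∀ w, φ ⬝ᵥ w = 0 → aeval (Y : Matrix (Fin n) (Fin n) F) f *ᵥ w = 0)
    (hch : (Y : Matrix (Fin n) (Fin n) F).charpoly = (X - C 1) * f)
    (h1 : f.eval 1 ≠ 0) (hr1 : f.reverse.eval 1 ≠ 0) (hcop : IsCoprime f f.reverse) : PhiCop Y φ := by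
  have hb : ∀ w, φ ⬝ᵥ w = 0 → (Y : Matrix (Fin n) (Fin n) F) *ᵥ w = w → w = 0 := by
    intro w hw hYw
    have h2 : ∀ p : F[X], aeval (Y : Matrix (Fin n) (Fin n) F) p *ᵥ w = p.eval 1 • w := by
      intro p
      induction p using Polynomial.induction_on' with
      | add p q hp hq => rw [map_add, add_mulVec, hp, hq, eval_add, add_smul]
      | monomial k a =>
        have h3 : ∀ k : ℕ, (Y : Matrix (Fin n) (Fin n) F) ^ k *ᵥ w = w := by
          intro k
          induction k with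
          | zero => simp
          | succ k ih => rw [pow_succ, ← mulVec_mulVec, hYw, ih]
        rw [aeval_monomial, Algebra.algebraMap_eq_smul_one, Matrix.smul_mul, one_mul, smul_mulVec, h3,
          eval_monomial, one_pow, mul_one]
    have h3 := hK w hw
    rw [h2] at h3
    exact (smul_eq_zero.1 h3).resolve_left h1
  refine ⟨hfix, hb, fun T ha hT => ?_⟩
  have hti : (ti Y : Matrix (Fin n) (Fin n) F) *ᵥ φ = φ := by
    rw [ti_coe, mulVec_transpose]
    conv_lhs => rw [← hfix]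
    rw [vecMul_vecMul, ← Units.val_mul, mul_inv_cancel, Units.val_one, vecMul_one]
  have hTφ : T φ = 0 := by
    apply hb _ (ha φ)
    rw [← hT, hti]
  -- `f (Yᵀ) a` is a multiple of `φ`
  have hmul : ∀ a, ∃ c : F, aeval ((Y : Matrix (Fin n) (Fin n) F)ᵀ) f *ᵥ a = c • φ := by
    intro a
    apply dot_zero_span hφ
    intro w hw
    rw [aeval_transpose, mulVec_transpose, ← dotProduct_mulVec, hK w hw, dotProduct_zero]
  have hrev : ∀ a, aeval (Y : Matrix (Fin n) (Fin n) F) f.reverse *ᵥ T a = 0 := by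
    intro a
    obtain ⟨c, hc⟩ := hmul a
    have h2 : (Y : Matrix (Fin n) (Fin n) F) ^ f.natDegree *ᵥ
        T (aeval ((Y : Matrix (Fin n) (Fin n) F)ᵀ) f *ᵥ a) = 0 := by
      rw [hc, map_smul, hTφ, smul_zero, mulVec_zero]
    rw [← h2, aeval_reverse_eq, aeval_eq_sum_range, sum_mulVec, sum_mulVec, map_sum, mulVec_sum]
    refine Finset.sum_congr rfl fun i hi => ?_
    rw [Finset.mem_range] at hi
    rw [smul_mulVec, smul_mulVec, map_smul, mulVec_smul]
    congr 1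
    have h3 : f.natDegree = (f.natDegree - i) + i := by omega
    conv_rhs => rw [h3, pow_add, ← mulVec_mulVec, pow_ti_mulVec Y T hT i a]
  have hcop2 : IsCoprime ((X - C 1) * f) f.reverse := by
    refine IsCoprime.mul_left ?_ hcop
    exact (irreducible_X_sub_C (1 : F)).coprime_iff_not_dvd.2 (fun h => hr1 (dvd_iff_isRoot.1 h))
  obtain ⟨r, s, hrs⟩ := hcop2
  rw [← hch] at hrs
  apply LinearMap.ext
  intro a
  have h4 : aeval (Y : Matrix (Fin n) (Fin n) F)
      (r * (Y : Matrix (Fin n) (Fin n) F).charpoly + s * f.reverse) *ᵥ T a = T a := by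
    rw [hrs, map_one, one_mulVec]
  rw [LinearMap.zero_apply, ← h4, map_add, map_mul, map_mul, aeval_self_charpoly, mul_zero, zero_add,
    ← mulVec_mulVec, hrev, mulVec_zero]

end Cfsg.Agent.H295.War
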